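import Mathlib

/-!
# Blk47 (S4715 swarm), pieces (c1) and (c4) (helper9)

* `b47_orbit_card_le`: the `T`-conjugates of `z₀` inside a set `Z` fixed elementwise by `H ≤ T`
  number at most `|T : H|`;
* `b47_arith`: the final exponent comparison.
-/

set_option autoImplicit false

namespace Cfsg.Agent.Blk47

/-- (c1) orbit bound: no normality and no stability of `Z` under `T` is needed. -/
theorem b47_orbit_card_le {G : Type*} [Group G] [Finite G] (T H : Subgroup G) (hHT : H ≤ T)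
    (Z : Set G) (hfix : ∀ h ∈ H, ∀ z ∈ Z, h * z * h⁻¹ = z) (z₀ : G) (hz₀ : z₀ ∈ Z) :
    Nat.card {z : G // z ∈ Z ∧ ∃ t ∈ T, t * z₀ * t⁻¹ = z} ≤ H.relIndex T := by
  classical
  have hch : ∀ z : {z : G // z ∈ Z ∧ ∃ t ∈ T, t * z₀ * t⁻¹ = z},
      ∃ t : ↥T, (t : G) * z₀ * (t : G)⁻¹ = z.1 := by
    rintro ⟨z, -, t, ht, h⟩
    exact ⟨⟨t, ht⟩, h⟩
  choose τ hτ using hch
  let φ : {z : G // z ∈ Z ∧ ∃ t ∈ T, t * z₀ * t⁻¹ = z} → ↥T ⧸ H.subgroupOf T :=
    fun z => QuotientGroup.mk (τ z)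
  have hinj : Function.Injective φ := by
    intro z z' h
    have h1 : (τ z)⁻¹ * τ z' ∈ H.subgroupOf T := QuotientGroup.eq.mp h
    rw [Subgroup.mem_subgroupOf] at h1
    have h2 := hfix _ h1 z₀ hz₀
    apply Subtype.ext
    rw [← hτ z, ← hτ z']
    have h3 : ((τ z' : ↥T) : G) = (τ z : G) * (((τ z)⁻¹ * τ z' : ↥T) : G) := by
      rw [Subgroup.coe_mul, Subgroup.coe_inv]; group
    rw [h3]
    generalize (((τ z)⁻¹ * τ z' : ↥T) : G) = k at h2
    calc (τ z : G) * z₀ * (τ z : G)⁻¹ = (τ z : G) * (k * z₀ * k⁻¹) * (τ z : G)⁻¹ := by rw [h2]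
      _ = (τ z : G) * k * z₀ * ((τ z : G) * k)⁻¹ := by group
  have := Nat.card_le_card_of_injective φ hinj
  exact this

/-- (c4) the exponent comparison. -/
theorem b47_arith (p h c d e n : ℕ) (hp : p.Prime) (h1 : p ^ (h + c) ≤ p ^ d * e)
    (h2 : e < p ^ (n + 1)) : h + c ≤ n + d := by
  have hp1 : 1 < p := hp.one_lt
  have h3 : p ^ d * e < p ^ d * p ^ (n + 1) :=
    Nat.mul_lt_mul_of_pos_left h2 (pow_pos hp.pos d)
  have h4 : p ^ (h + c) < p ^ (d + (n + 1)) := by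
    rw [pow_add p d (n + 1)]
    exact lt_of_le_of_lt h1 h3
  have h5 := (Nat.pow_lt_pow_iff_right hp1).mp h4
  omega

end Cfsg.Agent.Blk47
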