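import Mathlib

set_option autoImplicit false

/-!
Piece [P] for S4715 (helper6's plan): summing a lower bound over the generator classes of a finite
abelian group.
-/

namespace Cfsg.Agent.Blk47

variable {Z : Type*} [Group Z] [Fintype Z]

/-- the elements generating the same cyclic subgroup -/
noncomputable def b47_p_cls (u : Z) : Finset Z :=
  by classical exact Finset.univ.filter (fun v => Subgroup.zpowers v = Subgroup.zpowers u)

theorem b47_p_mem_cls {u v : Z} : v ∈ b47_p_cls u ↔ Subgroup.zpowers v = Subgroup.zpowers u := by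
  classical
  unfold b47_p_cls
  rw [Finset.mem_filter]
  exact ⟨fun h => h.2, fun h => ⟨Finset.mem_univ _, h⟩⟩

omit [Fintype Z] in
theorem b47_p_orderOf_eq {u v : Z} (h : Subgroup.zpowers v = Subgroup.zpowers u) :
    orderOf v = orderOf u := by
  rw [← Nat.card_zpowers, ← Nat.card_zpowers, h]

theorem b47_p_zpowers_pow {u : Z} {a : ℕ} (ha : (orderOf u).Coprime a) :
    Subgroup.zpowers (u ^ a) = Subgroup.zpowers u := by
  apply Subgroup.eq_of_le_of_card_ge
  · exact Subgroup.zpowers_le.mpr (Subgroup.pow_mem _ (Subgroup.mem_zpowers u) a)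
  · rw [Nat.card_zpowers, Nat.card_zpowers, ha.orderOf_pow]

/-- the generators of `⟨u⟩` are the powers `u ^ k`, `k` a unit modulo the order of `u` -/
theorem b47_p_sum_units [∀ u : Z, NeZero (orderOf u)] (F : Z → ℝ) (u : Z) :
    ∑ k : (ZMod (orderOf u))ˣ, F (u ^ (k : ZMod (orderOf u)).val) = ∑ v ∈ b47_p_cls u, F v := by
  classical
  apply Finset.sum_nbij (fun k : (ZMod (orderOf u))ˣ => u ^ (k : ZMod (orderOf u)).val)
  · intro k _
    rw [b47_p_mem_cls]
    exact b47_p_zpowers_pow (ZMod.val_coe_unit_coprime k).symm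
  · intro k _ k' _ hkk
    have h1 : (k : ZMod (orderOf u)).val = (k' : ZMod (orderOf u)).val :=
      pow_injOn_Iio_orderOf (ZMod.val_lt _) (ZMod.val_lt _) hkk
    exact Units.ext (ZMod.val_injective _ h1)
  · intro v hv
    have hv' := b47_p_mem_cls.mp (Finset.mem_coe.mp hv)
    have hmem : v ∈ Subgroup.zpowers u := by
      rw [← hv']
      exact Subgroup.mem_zpowers v
    rw [mem_zpowers_iff_mem_range_orderOf, Finset.mem_image] at hmem
    obtain ⟨a, ha, rfl⟩ := hmem
    rw [Finset.mem_range] at ha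
    have hord := b47_p_orderOf_eq hv'
    rw [orderOf_pow] at hord
    have hpos : 0 < orderOf u := orderOf_pos u
    have hg : Nat.gcd (orderOf u) a = 1 := by
      rcases (Nat.div_eq_self.mp hord) with h0 | h1
      · omega
      · exact h1
    have hcop : Nat.Coprime a (orderOf u) := (Nat.coprime_iff_gcd_eq_one.mpr hg).symm
    refine ⟨ZMod.unitOfCoprime a hcop, Finset.mem_coe.mpr (Finset.mem_univ _), ?_⟩
    show u ^ ((ZMod.unitOfCoprime a hcop : (ZMod (orderOf u))ˣ) : ZMod (orderOf u)).val = u ^ a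
    rw [ZMod.coe_unitOfCoprime, ZMod.val_natCast_of_lt ha]
  · intro k _
    rfl

theorem b47_p_card_cls [∀ u : Z, NeZero (orderOf u)] (u : Z) :
    ((b47_p_cls u).card : ℝ) = (Nat.totient (orderOf u) : ℝ) := by
  have h := b47_p_sum_units (fun _ : Z => (1 : ℝ)) u
  rw [Finset.sum_const, Finset.sum_const, nsmul_eq_mul, nsmul_eq_mul, mul_one, mul_one,
    Finset.card_univ, ZMod.card_units_eq_totient] at h
  exact h.symm

/-- averaging over the generator classes -/
theorem b47_p_avg [∀ u : Z, NeZero (orderOf u)] (F : Z → ℝ) :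
    ∑ u : Z, ((Nat.totient (orderOf u) : ℝ))⁻¹ * ∑ v ∈ b47_p_cls u, F v = ∑ v : Z, F v := by
  classical
  have h1 : ∀ u : Z, ((Nat.totient (orderOf u) : ℝ))⁻¹ * ∑ v ∈ b47_p_cls u, F v =
      ∑ v : Z, if Subgroup.zpowers v = Subgroup.zpowers u then
        ((Nat.totient (orderOf u) : ℝ))⁻¹ * F v else 0 := by
    intro u
    rw [Finset.mul_sum, ← Finset.sum_filter]
    rfl
  rw [Finset.sum_congr rfl (fun u _ => h1 u), Finset.sum_comm]
  apply Finset.sum_congr rfl
  intro v _
  have h2 : ∀ u : Z, (if Subgroup.zpowers v = Subgroup.zpowers u then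
        ((Nat.totient (orderOf u) : ℝ))⁻¹ * F v else 0) =
      if Subgroup.zpowers u = Subgroup.zpowers v then
        ((Nat.totient (orderOf v) : ℝ))⁻¹ * F v else 0 := by
    intro u
    by_cases h : Subgroup.zpowers v = Subgroup.zpowers u
    · rw [if_pos h, if_pos h.symm, b47_p_orderOf_eq h]
    · rw [if_neg h, if_neg (fun h' => h h'.symm)]
  rw [Finset.sum_congr rfl (fun u _ => h2 u), ← Finset.sum_filter, Finset.sum_const,
    nsmul_eq_mul]
  have h3 : ((Finset.univ.filter (fun u => Subgroup.zpowers u = Subgroup.zpowers v)).card : ℝ) =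
      (Nat.totient (orderOf v) : ℝ) := b47_p_card_cls v
  rw [h3]
  have hpos : (0 : ℝ) < (Nat.totient (orderOf v) : ℝ) := by
    exact_mod_cast Nat.totient_pos.mpr (orderOf_pos v)
  rw [← mul_assoc, mul_inv_cancel₀ hpos.ne', one_mul]

/-- **[P]** -/
theorem b47_P {Z : Type*} [CommGroup Z] [Fintype Z] [∀ u : Z, NeZero (orderOf u)] (F : Z → ℝ)
    (c : ℝ)
    (h : ∀ u : Z, (Nat.totient (orderOf u) : ℝ) * c ≤
      ∑ k : (ZMod (orderOf u))ˣ, F (u ^ (k : ZMod (orderOf u)).val)) :
    (Fintype.card Z : ℝ) * c ≤ ∑ u : Z, F u := by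
  rw [← b47_p_avg F]
  have h1 : (Fintype.card Z : ℝ) * c = ∑ _u : Z, c := by
    rw [Finset.sum_const, nsmul_eq_mul, Finset.card_univ]
  rw [h1]
  apply Finset.sum_le_sum
  intro u _
  have hpos : (0 : ℝ) < (Nat.totient (orderOf u) : ℝ) := by
    exact_mod_cast Nat.totient_pos.mpr (orderOf_pos u)
  rw [← b47_p_sum_units F u]
  calc c = ((Nat.totient (orderOf u) : ℝ))⁻¹ * ((Nat.totient (orderOf u) : ℝ) * c) := by
        rw [← mul_assoc, inv_mul_cancel₀ hpos.ne', one_mul]
    _ ≤ _ := mul_le_mul_of_nonneg_left (h u) (inv_nonneg.mpr hpos.le)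

end Cfsg.Agent.Blk47
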