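import Mathlib

/-!
# Blk47 (S4715), piece (c2′): the Cauchy–Schwarz step
-/

set_option autoImplicit false

namespace Cfsg.Agent.Blk47

/-- If `m i ^ 2 ≤ a i * b i` with `a i, b i ≥ 0` and `∑ a ≤ e`, `∑ b ≤ e`, then `∑ |m i| ≤ e`. -/
theorem b47_CS {ι : Type*} (s : Finset ι) (a b m : ι → ℝ) (e : ℝ) (ha : ∀ i ∈ s, 0 ≤ a i)
    (hb : ∀ i ∈ s, 0 ≤ b i) (hm : ∀ i ∈ s, m i ^ 2 ≤ a i * b i) (hA : ∑ i ∈ s, a i ≤ e)
    (hB : ∑ i ∈ s, b i ≤ e) : ∑ i ∈ s, |m i| ≤ e := by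
  -- `|m i| ≤ (a i + b i) / 2` by AM–GM
  have h1 : ∀ i ∈ s, |m i| ≤ (a i + b i) / 2 := by
    intro i hi
    have h2 : |m i| ^ 2 ≤ ((a i + b i) / 2) ^ 2 := by
      rw [sq_abs]
      have := hm i hi
      nlinarith [sq_nonneg (a i - b i)]
    have h3 : 0 ≤ (a i + b i) / 2 := by
      have := ha i hi
      have := hb i hi
      linarith
    by_contra hcon
    push Not at hcon
    nlinarith [abs_nonneg (m i)]
  calc ∑ i ∈ s, |m i| ≤ ∑ i ∈ s, (a i + b i) / 2 := Finset.sum_le_sum h1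
    _ = ((∑ i ∈ s, a i) + (∑ i ∈ s, b i)) / 2 := by
        rw [← Finset.sum_div, Finset.sum_add_distrib]
    _ ≤ e := by linarith

end Cfsg.Agent.Blk47
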