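import Mathlib

set_option autoImplicit false
set_option linter.unusedVariables false

/-!
Piece [Q] for S4715 (helper6's plan): the arithmetic-geometric mean inequality for the Galois
conjugates of a weighted sum of roots of unity whose product is a nonzero integer divisible by a
prime power.
-/

namespace Cfsg.Agent.Blk47

/-- arithmetic-geometric mean inequality in product form, with a lower bound for the product -/
theorem b47_q_amgm {κ : Type*} [Fintype κ] (x : κ → ℝ) (hx : ∀ k, 0 ≤ x k) (t : ℝ) (ht : 0 ≤ t)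
    (hprod : t ^ Fintype.card κ ≤ ∏ k, x k) : (Fintype.card κ : ℝ) * t ≤ ∑ k, x k := by
  rcases Nat.eq_zero_or_pos (Fintype.card κ) with h0 | hpos
  · rw [h0, Nat.cast_zero, zero_mul]
    exact Finset.sum_nonneg (fun k _ => hx k)
  have hN : (0 : ℝ) < (Fintype.card κ : ℝ) := by exact_mod_cast hpos
  have hN0 : (Fintype.card κ : ℝ) ≠ 0 := hN.ne'
  have h1 := Real.geom_mean_le_arith_mean_weighted (Finset.univ : Finset κ)
    (fun _ => (Fintype.card κ : ℝ)⁻¹) x (fun _ _ => inv_nonneg.mpr hN.le)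
    (by rw [Finset.sum_const, Finset.card_univ, nsmul_eq_mul, mul_inv_cancel₀ hN0])
    (fun k _ => hx k)
  rw [Real.finsetProd_rpow _ _ (fun k _ => hx k), ← Finset.mul_sum] at h1
  have h2 : t ≤ (∏ k, x k) ^ ((Fintype.card κ : ℝ)⁻¹) := by
    calc t = (t ^ Fintype.card κ) ^ ((Fintype.card κ : ℝ)⁻¹) :=
          (Real.pow_rpow_inv_natCast ht hpos.ne').symm
      _ ≤ (∏ k, x k) ^ ((Fintype.card κ : ℝ)⁻¹) :=
          Real.rpow_le_rpow (pow_nonneg ht _) hprod (inv_nonneg.mpr hN.le)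
  have h3 : t ≤ (Fintype.card κ : ℝ)⁻¹ * ∑ k, x k := le_trans h2 h1
  calc (Fintype.card κ : ℝ) * t ≤ (Fintype.card κ : ℝ) * ((Fintype.card κ : ℝ)⁻¹ * ∑ k, x k) :=
        mul_le_mul_of_nonneg_left h3 hN.le
    _ = ∑ k, x k := by rw [← mul_assoc, mul_inv_cancel₀ hN0, one_mul]

/-- **[Q]** -/
theorem b47_Q (n p h : ℕ) [NeZero n] (hp : p.Prime) {ι : Type*} [Fintype ι] (w : ι → ℤ) (μ : ι → ℂ)
    (hμ : ∀ i, μ i ^ n = 1) (hn : 0 < n) (m : ℤ)
    (hm : ∏ k : (ZMod n)ˣ, (∑ i, (w i : ℂ) * μ i ^ (k : ZMod n).val) = m) (hm0 : m ≠ 0)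
    (hdvd : (p : ℤ) ^ (h * Fintype.card (ZMod n)ˣ) ∣ m) :
    (Fintype.card (ZMod n)ˣ : ℝ) * (p : ℝ) ^ h ≤
      ∑ k : (ZMod n)ˣ, ‖∑ i, (w i : ℂ) * μ i ^ (k : ZMod n).val‖ := by
  apply b47_q_amgm _ (fun k => norm_nonneg _) _ (by positivity)
  rw [← norm_prod, hm, Complex.norm_intCast, ← pow_mul]
  have h1 : ((p : ℤ) ^ (h * Fintype.card (ZMod n)ˣ)) ≤ |m| := by
    have h2 := Int.le_of_dvd (abs_pos.mpr hm0) ((dvd_abs _ _).mpr hdvd)
    exact h2
  have h3 : (((p : ℤ) ^ (h * Fintype.card (ZMod n)ˣ) : ℤ) : ℝ) ≤ ((|m| : ℤ) : ℝ) := by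
    exact_mod_cast h1
  push_cast at h3
  exact h3

end Cfsg.Agent.Blk47
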